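import Groth.Agent.L29.IdealDual.Transform
import Groth.Agent.L18.GenLocus
import Mathlib.Algebra.Homology.DerivedCategory.FullyFaithful

/-!
The transform of the dual of the ideal of the unit point.
-/

set_option autoImplicit false
set_option linter.style.haveILetI false
set_option backward.defeqAttrib.useBackward true
set_option backward.isDefEq.respectTransparency false
set_option backward.isDefEq.respectTransparency.types false

universe u

open CategoryTheory CategoryTheory.Limits CategoryTheory.Pretriangulated MonoidalCategory CartesianMonoidalCategory MonObj GrpObj AlgebraicGeometry Opposite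

attribute [local instance] HasDerivedCategory.standard

noncomputable section

namespace Groth.L29.IdealDual

open Groth.L00 Groth.L29.DC Groth.L07.BvdB Groth.L07.BvdB.DualFun

theorem ext_secOf {X : Scheme.{u}} {L : X.Modules} {f f' : Coh.structureModule X ⟶ L}
    (h : Groth.L18.GenLoc.secOf f = Groth.L18.GenLoc.secOf f') : f = f' :=
  (Groth.L18.GenLoc.homOfSection_secOf f).symm.trans
    ((congrArg (Groth.L16.homOfSection L) h).trans (Groth.L18.GenLoc.homOfSection_secOf f'))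

theorem secOf_comp' {X : Scheme.{u}} {L M : X.Modules} (f : Coh.structureModule X ⟶ L) (φ : L ⟶ M) :
    Groth.L18.GenLoc.secOf (f ≫ φ) = φ.app ⊤ (Groth.L18.GenLoc.secOf f) := rfl

theorem app_top_eq {X : Scheme.{u}} {L : X.Modules} (f : Coh.structureModule X ⟶ L) (r : Γ(X, ⊤)) :
    f.app ⊤ r = r • Groth.L18.GenLoc.secOf f :=
  (Groth.L18.GenLoc.app_eq f ⊤ r).trans (congrArg (r • ·) (Groth.L18.Frame.rs_self L _ _))

theorem homOfSection_comp_eq_id {X : Scheme.{u}} (e e' : Γ(X, ⊤)) (he : e * e' = 1) :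
    Groth.L16.homOfSection (Coh.structureModule X) e ≫ Groth.L16.homOfSection (Coh.structureModule X) e' = 𝟙 _ := by
  apply ext_secOf
  refine (secOf_comp' _ _).trans ((app_top_eq _ _).trans ?_)
  rw [Groth.L18.GenLoc.secOf_homOfSection, Groth.L18.GenLoc.secOf_homOfSection]
  exact he

/-- the restriction to a closed subscheme sends one to one -/
theorem secOf_unitToPush {Z X : Scheme.{u}} (s : Z ⟶ X) :
    (Groth.L18.GenLoc.secOf (ClSub.unitToPush s) : Γ(Z, ⊤)) = (1 : Γ(Z, ⊤)) :=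
  map_one (s.app ⊤).hom

theorem secOf_push_map {Z X : Scheme.{u}} (s : Z ⟶ X) {L : Z.Modules} (h : Coh.structureModule Z ⟶ L)
    (r : Γ(Z, ⊤)) (f : Coh.structureModule X ⟶ (Scheme.Modules.pushforward s).obj (Coh.structureModule Z))
    (hf : (Groth.L18.GenLoc.secOf f : Γ(Z, ⊤)) = r) :
    @Eq Γ(L, ⊤) (Groth.L18.GenLoc.secOf (L := (Scheme.Modules.pushforward s).obj L)
      (f ≫ (Scheme.Modules.pushforward s).map h)) (h.app ⊤ r) :=
  congrArg (fun t : Γ(Z, ⊤) => h.app ⊤ t) hf

theorem unitToPush_map_eq {Z X : Scheme.{u}} (s : Z ⟶ X) {L : Z.Modules} (h : Coh.structureModule Z ⟶ L)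
    (φ : Coh.structureModule X ⟶ (Scheme.Modules.pushforward s).obj L)
    (hh : @Eq Γ(L, ⊤) (Groth.L18.GenLoc.secOf (L := (Scheme.Modules.pushforward s).obj L) φ) (h.app ⊤ (1 : Γ(Z, ⊤)))) :
    ClSub.unitToPush s ≫ (Scheme.Modules.pushforward s).map h = φ :=
  ext_secOf ((secOf_push_map s h 1 (ClSub.unitToPush s) (secOf_unitToPush s)).trans hh.symm)

theorem exists_endo {Z : Scheme.{u}} (c d : Γ(Z, ⊤)) (hd : c * d = 1) :
    ∃ l : Coh.structureModule Z ≅ Coh.structureModule Z, c = l.hom.app ⊤ (1 : Γ(Z, ⊤)) :=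
  ⟨⟨Groth.L16.homOfSection _ c, Groth.L16.homOfSection _ d, homOfSection_comp_eq_id c d hd,
      homOfSection_comp_eq_id d c ((mul_comm d c).trans hd)⟩,
    (Groth.L18.GenLoc.secOf_homOfSection (L := Coh.structureModule Z) c).symm⟩

theorem secOf_ne_zero {Z X : Scheme.{u}} (s : Z ⟶ X)
    {φ : Coh.structureModule X ⟶ (Scheme.Modules.pushforward s).obj (Coh.structureModule Z)} (hφ : φ ≠ 0) :
    (Groth.L18.GenLoc.secOf φ : Γ(Z, ⊤)) ≠ 0 :=
  fun h => hφ (ext_secOf (h.trans rfl))

theorem exists_inv {k : Type u} [Field k] (c : Γ(Spec (CommRingCat.of k), ⊤)) (hc : c ≠ 0) : ∃ d, c * d = 1 :=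
  (MulEquiv.isField (Field.toIsField k)
    (Scheme.ΓSpecIso (CommRingCat.of k)).commRingCatIsoToRingEquiv.toMulEquiv).mul_inv_cancel hc

/-- maps to a rational point are multiples of the restriction -/
theorem exists_eq_unitToPush {k : Type u} [Field k] {X : Scheme.{u}} (s : Spec (CommRingCat.of k) ⟶ X)
    (φ : Coh.structureModule X ⟶ (Scheme.Modules.pushforward s).obj (Coh.structureModule (Spec (CommRingCat.of k))))
    (hφ : φ ≠ 0) :
    ∃ l : (Scheme.Modules.pushforward s).obj (Coh.structureModule (Spec (CommRingCat.of k))) ≅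
      (Scheme.Modules.pushforward s).obj (Coh.structureModule (Spec (CommRingCat.of k))),
      ClSub.unitToPush s ≫ l.hom = φ :=
  (exists_inv _ (secOf_ne_zero s hφ)).elim fun d hd => (exists_endo _ d hd).elim fun l hl =>
    ⟨(Scheme.Modules.pushforward s).mapIso l, unitToPush_map_eq s l.hom φ hl⟩

/-- a triangle whose first map is a shifted map of modules -/
theorem nonempty_obj₃_iso {C : Type*} [Category C] [Preadditive C] [HasZeroObject C] [HasShift C ℤ]
    [∀ n : ℤ, (shiftFunctor C n).Additive] [Pretriangulated C] {I O K : C} {i : I ⟶ O} {p : O ⟶ K}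
    {h : K ⟶ I⟦(1 : ℤ)⟧} (hT : Triangle.mk i p h ∈ distTriang C) (n : ℤ) {M : C}
    {b : K⟦n⟧ ⟶ M} {c : M ⟶ (O⟦n⟧)⟦(1 : ℤ)⟧} (hU : Triangle.mk (p⟦n⟧') b c ∈ distTriang C) (m : ℤ) (hm : 1 + n = m) :
    Nonempty (M ≅ I⟦m⟧) := by
  let T := (Triangle.shiftFunctor C n).obj (Triangle.mk i p h).rotate
  have hT' : T ∈ distTriang C := Triangle.shift_distinguished _ (rot_of_distTriang _ hT) n
  let ε := n.negOnePow
  have hε : ∀ {A B : C} (f : A ⟶ B), ε • (ε • f) = f := fun f => by
    rw [smul_smul, Int.units_mul_self, one_smul]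
  let u : K⟦n⟧ ≅ K⟦n⟧ := ⟨ε • 𝟙 _, ε • 𝟙 _, by
    rw [Linear.units_smul_comp, Category.id_comp, hε], by rw [Linear.units_smul_comp, Category.id_comp, hε]⟩
  refine ⟨Triangle.π₃.mapIso (isoTriangleOfIso₁₂ _ T hU hT' (Iso.refl _) u ?_) ≪≫
    (shiftFunctorAdd' C 1 n m hm).symm.app I⟩
  change p⟦n⟧' ≫ (ε • 𝟙 _) = 𝟙 _ ≫ (ε • p⟦n⟧')
  rw [Linear.comp_units_smul, Category.comp_id, Category.id_comp]

variable (k : Type u) [Field k] [IsAlgClosed k]
    (A : Over (Spec (CommRingCat.of k))) [GrpObj A] [IsProper A.hom] [Smooth A.hom]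

omit [IsAlgClosed k] in
theorem isPerfect_ideal : DCoh.IsPerfect (DCoh.inD A.left (kernel (ClSub.unitToPush η[A].left))) := by
  haveI : IsLocallyNoetherian A.left := LocallyOfFiniteType.isLocallyNoetherian A.hom
  haveI := isClosedImmersion_unit k A
  haveI : IsLocallyNoetherian (Spec (CommRingCat.of k)) := inferInstance
  haveI : IsLocallyNoetherian (𝟙_ (Over (Spec (CommRingCat.of k)))).left :=
    inferInstanceAs (IsLocallyNoetherian (Spec (CommRingCat.of k)))
  haveI : Coh.IsQCoh ((Scheme.Modules.pushforward η[A].left).obj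
      (Coh.structureModule (𝟙_ (Over (Spec (CommRingCat.of k)))).left)) :=
    (Groth.L16.CohClosedPush.isCoh_push η[A].left Groth.L16.CohClosedPush.isCoh_structure).1
  exact Groth.L29.GV.isPerfect_inD_of_smooth A.hom _
    (Groth.L16.CohSupport.isCoh_kernel Groth.L16.CohClosedPush.isCoh_structure _)

set_option maxHeartbeats 800000 in
/-- the first map of the triangle of the dual is nonzero -/
theorem ne_zero_of_triangle (g : ℕ) (hg : topologicalKrullDim ↥A.left = g)
    {a : (DCoh.inD A.left (k0 k A))⟦-(g : ℤ)⟧ ⟶ DCoh.inD A.left (Coh.structureModule A.left)}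
    {b : DCoh.inD A.left (Coh.structureModule A.left) ⟶ idealDual k A}
    {c : idealDual k A ⟶ ((DCoh.inD A.left (k0 k A))⟦-(g : ℤ)⟧)⟦(1 : ℤ)⟧}
    (hT : Triangle.mk a b c ∈ distTriang (DCoh.D A.left)) : a ≠ 0 := by
  intro ha
  let K := DCoh.inD A.left (k0 k A)
  let K' := (K⟦-(g : ℤ)⟧)⟦(1 : ℤ)⟧
  haveI : Epi c := (Triangle.mor₁_eq_zero_iff_epi₃ _ hT).1 ha
  haveI := isSplitEpi_of_epi c
  obtain ⟨β⟩ := nonempty_bidual (isPerfect_ideal k A)
  obtain ⟨d⟩ := nonempty_dual_k0 k A g hg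
  let K1 := K⟦-(g : ℤ) + 1⟧
  let e : K1 ≅ K' := (shiftFunctorAdd' (DCoh.D A.left) (-(g : ℤ)) 1 (-(g : ℤ) + 1) rfl).app K
  obtain ⟨sh⟩ := nonempty_dual_shift K (-(g : ℤ) + 1)
  let H := DerivedCategory.homologyFunctor A.left.Modules 1
  let x : dual K' ⟶ DCoh.inD A.left (kernel (ClSub.unitToPush η[A].left)) := dualMap c ≫ β.hom
  let y : DCoh.inD A.left (kernel (ClSub.unitToPush η[A].left)) ⟶ dual K' := β.inv ≫ dualMap (section_ c)
  have hxy : x ≫ y = 𝟙 _ := by
    simp only [x, y, Category.assoc, Iso.hom_inv_id_assoc]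
    rw [← dualMap_comp, IsSplitEpi.id, dualMap_id]
  have hz : IsZero (DCoh.HD (dual K') 1) := by
    rw [IsZero.iff_id_eq_zero, ← (H.map_id _), ← hxy, Functor.map_comp,
      (Groth.L29.RelPC.isZero_HD_inD (show (1 : ℤ) ≠ 0 by omega)).eq_of_tgt (H.map x) 0, zero_comp]
  have h1 : IsZero (DCoh.HD ((dual K)⟦-(-(g : ℤ) + 1)⟧) 1) :=
    hz.of_iso (H.mapIso (sh.symm ≪≫ (dualMapIso e).symm))
  have h2 : IsZero (DCoh.HD (dual K) (g : ℤ)) :=
    h1.of_iso (Groth.L10.hShiftIso (dual K) (-(-(g : ℤ) + 1)) 1 (g : ℤ) (by omega)).symm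
  have h3 : IsZero (DCoh.HD K 0) :=
    (h2.of_iso ((DerivedCategory.homologyFunctor _ (g : ℤ)).mapIso d.symm)).of_iso
      (Groth.L10.hShiftIso K (-(g : ℤ)) (g : ℤ) 0 (by omega)).symm
  obtain ⟨e0⟩ := Groth.L29.RelPC.nonempty_HD0_inD (k0 k A)
  have h4 : IsZero (k0 k A) := h3.of_iso e0.symm
  obtain ⟨-, ⟨p⟩⟩ := nonempty_push_pt A.hom η[A].left (Over.w η[A])
  have h5 := h4.of_iso p.symm
  obtain ⟨t⟩ := Groth.L07.BvdB.PointSky.nonempty_stalk_iso (η[A].left (IsLocalRing.closedPoint k))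
  have h6 := ModuleCat.subsingleton_of_isZero (((Groth.L00.Stk.F A.left _).map_isZero h5).of_iso t.symm)
  exact not_subsingleton (IsLocalRing.ResidueField (A.left.presheaf.stalk (η[A].left (IsLocalRing.closedPoint k)))) h6

/-- a nonzero map between shifted objects descends -/
theorem exists_preimage {C : Type*} [Category C] [Preadditive C] {D : Type*} [Category D] [Preadditive D]
    (F : C ⥤ D) [F.Full] [F.Additive] {X Y : C} (f : F.obj X ⟶ F.obj Y) (hf : f ≠ 0) :
    ∃ g : X ⟶ Y, g ≠ 0 ∧ F.map g = f :=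
  ⟨F.preimage f, fun h => hf (by rw [← F.map_preimage f, h, F.map_zero]), F.map_preimage f⟩

/-- the first map of a triangle through isomorphisms -/
theorem exists_conj {C : Type*} [Category C] [Preadditive C] [HasZeroObject C] [HasShift C ℤ]
    [∀ n : ℤ, (shiftFunctor C n).Additive] [Pretriangulated C] {A B D : C} {a : A ⟶ B} {b : B ⟶ D}
    {c : D ⟶ A⟦(1 : ℤ)⟧} (hT : Triangle.mk a b c ∈ distTriang C) {A' B' : C} (i : A ≅ A') (j : B ≅ B') :
    ∃ (b' : B' ⟶ D) (c' : D ⟶ A'⟦(1 : ℤ)⟧), Triangle.mk (i.inv ≫ a ≫ j.hom) b' c' ∈ distTriang C :=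
  ⟨j.inv ≫ b, c ≫ i.hom⟦(1 : ℤ)⟧', isomorphic_distinguished _ hT _
    (Triangle.isoMk _ _ i.symm j.symm (Iso.refl _) (by simp) (by simp) (by simp [← Functor.map_comp]))⟩

variable (At : Over (Spec (CommRingCat.of k))) [GrpObj At] [IsProper At.hom] [Smooth At.hom]
    [GeometricallyConnected A.hom] [GeometricallyConnected At.hom]
    (φ : ∀ T : Over (Spec (CommRingCat.of k)), PicF.Cl (PicF.XT A.hom T) → (T ⟶ At))
    (hφ : AbDual.IsDualAV Scheme.fppfPrecoverage A At φ)
    (P : (pullback A.hom At.hom).Modules) (hP : PicF.IsInvertible P)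
    (hPξ : AbDual.IsPoincareCl A At φ (PicF.cl P))
    [DCoh.HasLpull (pullback.fst A.hom At.hom)] [DCoh.HasLTensorMod P] [DCoh.HasRpush (pullback.snd A.hom At.hom)]

include hφ hP hPξ in
set_option maxHeartbeats 1600000 in
/-- the transform of the dual of the ideal of the unit point -/
theorem nonempty_phi_idealDual (g : ℕ) (hg : topologicalKrullDim ↥A.left = g) :
    Nonempty ((Φ k A At P).obj (idealDual k A) ≅
      (DCoh.inD At.left (kernel (ClSub.unitToPush η[At].left)))⟦-((g : ℤ) - 1)⟧) := by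
  obtain ⟨a, b, c, hT⟩ := exists_triangle k A g hg
  have ha := ne_zero_of_triangle k A g hg hT
  obtain ⟨i0⟩ := nonempty_Φ_k0 k A At φ hφ P hP hPξ g hg
  obtain ⟨j0⟩ := nonempty_Φ_O k A At φ hφ P hP hPξ g hg
  obtain ⟨b₁, c₁, hT₁⟩ := exists_phi_triangle (pullback.fst A.hom At.hom) (pullback.snd A.hom At.hom) P
    (Groth.L10.FMBC.isFinLocFree_of_invertible hP) hT
  obtain ⟨b₂, c₂, hT₂⟩ := exists_conj hT₁ i0 j0
  -- faithfulness
  have hne : i0.inv ≫ (Φ k A At P).map a ≫ j0.hom ≠ 0 := by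
    intro h0
    have h1 : (Φ k A At P).map a = 0 := by
      rw [← cancel_epi i0.inv, ← cancel_mono j0.hom]
      simpa using h0
    haveI := Groth.Agent.L26.FMInv.isEquivalence_transform hφ P hP hPξ g hg
      ((Groth.Agent.L26.FMInv.dim_dual hφ P hPξ).trans hg) (fun M hM => isQCohD_Φ k A At P hP M hM)
    haveI : IsLocallyNoetherian A.left := LocallyOfFiniteType.isLocallyNoetherian A.hom
    haveI : IsLocallyNoetherian (𝟙_ (Over (Spec (CommRingCat.of k)))).left :=
      inferInstanceAs (IsLocallyNoetherian (Spec (CommRingCat.of k)))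
    haveI := isClosedImmersion_unit k A
    let M : DCoh.DQCoh A.left := ⟨(DCoh.inD A.left (k0 k A))⟦-(g : ℤ)⟧, isQCohD_shift (Groth.Lead.LTMod.isQCohD_inD_of
      (Groth.L16.CohClosedPush.isCoh_push η[A].left Groth.L16.CohClosedPush.isCoh_structure).1) _⟩
    let N : DCoh.DQCoh A.left := ⟨DCoh.inD A.left (Coh.structureModule A.left),
      Groth.Lead.LTMod.isQCohD_inD_of Groth.L16.CohClosedPush.isCoh_structure.1⟩
    refine ha ?_
    have h2 := (ObjectProperty.lift (DCoh.IsQCohD (X := At.left))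
      (ObjectProperty.ι (DCoh.IsQCohD (X := A.left)) ⋙ Φ k A At P)
      (fun M => isQCohD_Φ k A At P hP M.obj M.property)).map_injective
      (X := M) (Y := N) (a₁ := ObjectProperty.homMk a) (a₂ := ObjectProperty.homMk 0) (by
        apply ObjectProperty.hom_ext
        change (Φ k A At P).map a = (Φ k A At P).map 0
        rw [h1]
        letI := Groth.L29.BC.commShiftLpull (pullback.fst A.hom At.hom)
        haveI := Groth.L29.BC.isTriangulated_Lpull (pullback.fst A.hom At.hom)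
        haveI := RpushColim.additive_Rpush (pullback.snd A.hom At.hom)
        haveI : (DCoh.LTensorMod P).Additive := by
          haveI := (Groth.L16.Rees.PushExact.exact_instances (Groth.L10.FMBC.isFinLocFree_of_invertible hP)).1
          haveI := (Groth.L16.Rees.PushExact.exact_instances (Groth.L10.FMBC.isFinLocFree_of_invertible hP)).2
          exact Functor.additive_of_iso
            (Groth.Lead.TwistEquiv.ltIso P (Groth.L10.FMBC.isFinLocFree_of_invertible hP)).symm
        exact ((Φ k A At P).map_zero _ _).symm)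
    exact congrArg (fun t => t.hom) h2
  obtain ⟨f₁, hf₁, hf⟩ := exists_preimage (shiftFunctor (DCoh.D At.left) (-(g : ℤ))) _ hne
  obtain ⟨φ₀, hφ₀, hf'⟩ := exists_preimage (DerivedCategory.singleFunctor At.left.Modules 0) f₁ hf₁
  obtain ⟨l, hl⟩ := exists_eq_unitToPush η[At].left φ₀ hφ₀
  let S : ShortComplex At.left.Modules := ShortComplex.mk (kernel.ι (ClSub.unitToPush η[At].left)) φ₀ (by
    rw [← hl, ← Category.assoc, kernel.condition, zero_comp])
  have hS : S.ShortExact :=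
    ShortComplex.shortExact_of_iso (ShortComplex.isoMk (S₁ := seq k At) (S₂ := S) (Iso.refl _) (Iso.refl _) l
      ((Category.id_comp _).trans (Category.comp_id _).symm) ((Category.id_comp _).trans hl.symm))
      (shortExact_seq k At)
  rw [← hf, ← hf'] at hT₂
  exact nonempty_obj₃_iso hS.singleTriangle_distinguished (-(g : ℤ)) hT₂ _ (by omega)

end Groth.L29.IdealDual
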