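import Groth.Agent.L07.BvdB.DualPoint
import Groth.Agent.L08.GrpDim
import Groth.Agent.L29.LocFree
import Mathlib.AlgebraicGeometry.AlgClosed.Basic

/-!
The dual of a rational point of a group scheme.
-/

set_option autoImplicit false
set_option linter.style.haveILetI false
set_option backward.defeqAttrib.useBackward true
set_option backward.isDefEq.respectTransparency false
set_option backward.isDefEq.respectTransparency.types false

universe u

open CategoryTheory CategoryTheory.Limits MonoidalCategory CartesianMonoidalCategory MonObj GrpObj AlgebraicGeometry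

attribute [local instance] HasDerivedCategory.standard

noncomputable section

namespace Groth.L29.IdealDual

open Groth.L00 Groth.L29.DC Groth.L07.BvdB Groth.L07.BvdB.DualFun

attribute [local instance] KFlat.hasLTensorCx RHom.hasRSheafHom

theorem isIso_restrict_unit {Z W : Scheme.{u}} (e : Z ⟶ W) [IsIso e] (M : W.Modules) :
    IsIso ((Scheme.Modules.restrictAdjunction e).unit.app M) := by
  refine Scheme.Modules.Hom.isIso_iff_isIso_app.2 fun U => ?_
  rw [Scheme.Modules.restrictAdjunction_unit_app_app]
  have he : e ''ᵁ e ⁻¹ᵁ U = U := by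
    rw [Scheme.Hom.image_preimage_eq_opensRange_inf, Scheme.Hom.opensRange_of_isIso, top_inf_eq]
  have : homOfLE (e.image_preimage_le U) = eqToHom he := rfl
  rw [this]
  infer_instance

/-- the dual of an isomorphism -/
def dualMapIso {X : Scheme.{u}} {A B : DCoh.D X} (i : A ≅ B) : dual B ≅ dual A where
  hom := dualMap i.hom
  inv := dualMap i.inv
  hom_inv_id := by rw [← dualMap_comp, i.inv_hom_id, dualMap_id]
  inv_hom_id := by rw [← dualMap_comp, i.hom_inv_id, dualMap_id]

/-- direct images of the structure sheaf along an isomorphism -/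
theorem nonempty_push_structure {Z W : Scheme.{u}} (e : Z ⟶ W) [IsIso e] :
    Nonempty ((Scheme.Modules.pushforward e).obj (Coh.structureModule Z) ≅ Coh.structureModule W) :=
  ⟨(Scheme.Modules.pushforward e).mapIso (((Scheme.Modules.restrictFunctorIsoPullback e).app _ ≪≫
      Groth.L29.LocFree.pullbackUnitIso e).symm) ≪≫
    (@asIso _ _ _ _ _ (isIso_restrict_unit e (Coh.structureModule W))).symm⟩

/-- the direct image at a rational point is the module of the point -/
theorem nonempty_push_pt {k : Type u} [Field k] [IsAlgClosed k] {X : Scheme.{u}}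
    (f : X ⟶ Spec (CommRingCat.of k)) [LocallyOfFiniteType f] (s : Spec (CommRingCat.of k) ⟶ X) (hs : s ≫ f = 𝟙 _) :
    IsClosed ({s (IsLocalRing.closedPoint k)} : Set X) ∧
      Nonempty ((Scheme.Modules.pushforward s).obj (Coh.structureModule (Spec (CommRingCat.of k))) ≅
        PointSky.pt (s (IsLocalRing.closedPoint k))) := by
  let x := s (IsLocalRing.closedPoint k)
  have hx : IsClosed ({x} : Set X) := ((pointEquivClosedPoint f) ⟨s, hs⟩).2
  refine ⟨hx, ?_⟩
  have h : s = Spec.map (residueFieldIsoBase f x hx).hom ≫ X.fromSpecResidueField x :=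
    ext_of_apply_closedPoint_eq f hs (pointOfClosedPoint_comp f x hx) (pointOfClosedPoint_apply f x hx _).symm
  obtain ⟨e⟩ := nonempty_push_structure (Spec.map (residueFieldIsoBase f x hx).hom)
  exact ⟨(Scheme.Modules.pushforwardCongr h).app _ ≪≫
    ((Scheme.Modules.pushforwardComp (Spec.map (residueFieldIsoBase f x hx).hom) (X.fromSpecResidueField x)).app _).symm ≪≫
    (Scheme.Modules.pushforward (X.fromSpecResidueField x)).mapIso e⟩

variable (k : Type u) [Field k] [IsAlgClosed k]
    (A : Over (Spec (CommRingCat.of k))) [GrpObj A] [IsProper A.hom] [Smooth A.hom]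

/-- the skyscraper at the unit section -/
abbrev k0 : A.left.Modules :=
  (Scheme.Modules.pushforward η[A].left).obj (Coh.structureModule (Spec (CommRingCat.of k)))

set_option maxHeartbeats 800000 in
/-- the dual of the unit point -/
theorem nonempty_dual_k0 (g : ℕ) (hg : topologicalKrullDim ↥A.left = g) :
    Nonempty (dual (DCoh.inD A.left (k0 k A)) ≅ (DCoh.inD A.left (k0 k A))⟦-(g : ℤ)⟧) := by
  letI : A.left.Over (Spec (CommRingCat.of k)) := ⟨A.hom⟩
  haveI : IsLocallyNoetherian A.left := LocallyOfFiniteType.isLocallyNoetherian A.hom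
  haveI : CompactSpace A.left := QuasiCompact.compactSpace_of_compactSpace A.hom
  have hη : η[A].left ≫ A.hom = 𝟙 _ := Over.w η[A]
  obtain ⟨hx, ⟨e⟩⟩ := nonempty_push_pt A.hom η[A].left hη
  let i : DCoh.inD A.left (k0 k A) ≅ PointHom.ptD (η[A].left (IsLocalRing.closedPoint k)) :=
    (DerivedCategory.singleFunctor A.left.Modules 0).mapIso e
  obtain ⟨d⟩ := DualPoint.nonempty_dual_pt (k := k) (Groth.L21.Smooth.regular_stalk A.hom) hx g
    ((Groth.L08.GrpDim.ringKrullDim_stalk A _ hx).trans hg)
  exact ⟨dualMapIso i.symm ≪≫ d ≪≫ (shiftFunctor _ _).mapIso i.symm⟩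

end Groth.L29.IdealDual

namespace Groth.L29.IdealDual

open Groth.L00 Groth.L29.DC Groth.L07.BvdB Groth.L07.BvdB.DualFun

/-- the unit object is the structure sheaf -/
theorem nonempty_unit_iso (X : Scheme.{u}) :
    Nonempty (DualFun.unit (X := X) ≅ DCoh.inD X (Coh.structureModule X)) :=
  ⟨((DerivedCategory.singleFunctorIsoCompQ X.Modules 0).app (Coh.structureModule X)).symm⟩

/-- derived sheaf hom out of a module is the dual -/
theorem nonempty_RSheafHom_dual {X : Scheme.{u}} (M : X.Modules)
    [DCoh.HasLTensorCx ((HomologicalComplex.single X.Modules (ComplexShape.up ℤ) 0).obj M)]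
    [DCoh.HasRSheafHom ((HomologicalComplex.single X.Modules (ComplexShape.up ℤ) 0).obj M)] :
    Nonempty ((DCoh.RSheafHom ((HomologicalComplex.single X.Modules (ComplexShape.up ℤ) 0).obj M)).obj
      (DCoh.inD X (Coh.structureModule X)) ≅ dual (DCoh.inD X M)) := by
  obtain ⟨u⟩ := nonempty_unit_iso X
  exact ⟨(DCoh.RSheafHom _).mapIso u.symm ≪≫
    (dualIso (DCoh.inD X M) ((DerivedCategory.singleFunctorIsoCompQ X.Modules 0).app M).symm).symm⟩

end Groth.L29.IdealDual
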