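import Groth.Agent.L29.IdealDual.Triangle
import Groth.Agent.L29.RelPC.Module
import Groth.Agent.L10.DerTrunc
import Groth.Agent.L12.VBLift.Small
import Mathlib.Algebra.Homology.DerivedCategory.HomologySequence

/-!
The cohomology sheaves of the dual of the ideal of the unit point.
-/

set_option autoImplicit false
set_option linter.style.haveILetI false
set_option backward.defeqAttrib.useBackward true
set_option backward.isDefEq.respectTransparency false
set_option backward.isDefEq.respectTransparency.types false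

universe u

open CategoryTheory CategoryTheory.Limits CategoryTheory.Pretriangulated MonoidalCategory CartesianMonoidalCategory MonObj GrpObj AlgebraicGeometry

attribute [local instance] HasDerivedCategory.standard

noncomputable section

namespace Groth.L29.IdealDual

open Groth.L00 Groth.L29.DC Groth.L07.BvdB Groth.L07.BvdB.DualFun

/-- the dual of the structure sheaf -/
theorem nonempty_dual_O (X : Scheme.{u}) :
    Nonempty (dual (DCoh.inD X (Coh.structureModule X)) ≅ DCoh.inD X (Coh.structureModule X)) := by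
  haveI := KFlat.hasLTensorCx (RHom.O0 X)
  haveI := RHom.hasRSheafHom (RHom.O0 X)
  obtain ⟨u⟩ := nonempty_unit_iso X
  obtain ⟨r⟩ := RHom.nonempty_RSheafHom_O0 (X := X)
  exact ⟨dualIso (DCoh.inD X (Coh.structureModule X))
    ((DerivedCategory.singleFunctorIsoCompQ X.Modules 0).app (Coh.structureModule X)).symm ≪≫ r.app _ ≪≫ u⟩

variable (k : Type u) [Field k] [IsAlgClosed k]
    (A : Over (Spec (CommRingCat.of k))) [GrpObj A] [IsProper A.hom] [Smooth A.hom]

omit [IsAlgClosed k] [Smooth A.hom] in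
theorem isClosedImmersion_unit : IsClosedImmersion η[A].left := by
  haveI : IsClosedImmersion (η[A].left ≫ A.hom) := by
    rw [Over.w η[A]]
    exact inferInstanceAs (IsClosedImmersion (𝟙 (Spec (CommRingCat.of k))))
  exact IsClosedImmersion.of_comp η[A].left A.hom

/-- the sequence of the unit point -/
abbrev seq : ShortComplex A.left.Modules :=
  ShortComplex.mk (kernel.ι (ClSub.unitToPush η[A].left)) (ClSub.unitToPush η[A].left) (kernel.condition _)

omit [IsAlgClosed k] [Smooth A.hom] in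
theorem shortExact_seq : (seq k A).ShortExact := by
  haveI := isClosedImmersion_unit k A
  haveI : Epi (seq k A).g := Groth.L12.VBLift.epi_unitToPush η[A].left
  exact { exact := ShortComplex.exact_of_f_is_kernel _ (kernelIsKernel _) }

/-- the dual of the ideal of the unit point -/
abbrev idealDual : DCoh.D A.left := dual (DCoh.inD A.left (kernel (ClSub.unitToPush η[A].left)))

set_option maxHeartbeats 800000 in
theorem exists_triangle (g : ℕ) (hg : topologicalKrullDim ↥A.left = g) :
    ∃ (a : (DCoh.inD A.left (k0 k A))⟦-(g : ℤ)⟧ ⟶ DCoh.inD A.left (Coh.structureModule A.left))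
      (b : DCoh.inD A.left (Coh.structureModule A.left) ⟶ idealDual k A)
      (c : idealDual k A ⟶ ((DCoh.inD A.left (k0 k A))⟦-(g : ℤ)⟧)⟦(1 : ℤ)⟧),
      Triangle.mk a b c ∈ distTriang (DCoh.D A.left) := by
  obtain ⟨a, b, c, hT⟩ := exists_dual_triangle (shortExact_seq k A)
  obtain ⟨d⟩ := nonempty_dual_k0 k A g hg
  obtain ⟨o⟩ := nonempty_dual_O A.left
  refine ⟨d.inv ≫ a ≫ o.hom, o.inv ≫ b, c ≫ d.hom⟦(1 : ℤ)⟧', isomorphic_distinguished _ hT _ ?_⟩
  exact Triangle.isoMk _ _ d.symm o.symm (Iso.refl _) (by simp) (by simp) (by simp [← Functor.map_comp])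

omit [IsAlgClosed k] [Smooth A.hom] in
theorem isZero_H_shift (g : ℕ) (p : ℤ) (hp : p ≠ g) :
    IsZero (DCoh.HD ((DCoh.inD A.left (k0 k A))⟦-(g : ℤ)⟧) p) :=
  (Groth.L29.RelPC.isZero_HD_inD (by omega)).of_iso
    (Groth.L10.hShiftIso (DCoh.inD A.left (k0 k A)) (-(g : ℤ)) p (p - g) (by omega))

set_option maxHeartbeats 800000 in
/-- the cohomology sheaves -/
theorem cohomology_idealDual (g : ℕ) (hg : topologicalKrullDim ↥A.left = g) (hg2 : 2 ≤ g) :
    Nonempty (DCoh.HD (idealDual k A) 0 ≅ Coh.structureModule A.left) ∧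
    Nonempty (DCoh.HD (idealDual k A) ((g : ℤ) - 1) ≅ k0 k A) ∧
    (∀ p : ℤ, p ≠ 0 → p ≠ (g : ℤ) - 1 → IsZero (DCoh.HD (idealDual k A) p)) := by
  obtain ⟨a, b, c, hT⟩ := exists_triangle k A g hg
  let H := fun p : ℤ => DerivedCategory.homologyFunctor A.left.Modules p
  have hO : ∀ p : ℤ, p ≠ 0 → IsZero (DCoh.HD (DCoh.inD A.left (Coh.structureModule A.left)) p) :=
    fun p hp => Groth.L29.RelPC.isZero_HD_inD hp
  refine ⟨?_, ?_, fun p h0 h1 => ?_⟩
  · haveI : Mono ((H 0).map b) :=
      (DerivedCategory.HomologySequence.exact₂ _ hT 0).mono_g ((isZero_H_shift k A g 0 (by omega)).eq_of_src _ _)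
    haveI : Epi ((H 0).map b) := (DerivedCategory.HomologySequence.exact₃ _ hT 0 1).epi_f
      ((isZero_H_shift k A g 1 (by omega)).eq_of_tgt _ _)
    haveI : IsIso ((H 0).map b) := isIso_of_mono_of_epi _
    obtain ⟨e⟩ := Groth.L29.RelPC.nonempty_HD0_inD (Coh.structureModule A.left)
    exact ⟨(asIso ((H 0).map b)).symm ≪≫ e⟩
  · let δ := DerivedCategory.HomologySequence.δ (Triangle.mk a b c) ((g : ℤ) - 1) (g : ℤ) (by omega)
    haveI : Mono δ := (DerivedCategory.HomologySequence.exact₃ _ hT ((g : ℤ) - 1) (g : ℤ)).mono_g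
      ((hO _ (by omega)).eq_of_src _ _)
    haveI : Epi δ := (DerivedCategory.HomologySequence.exact₁ _ hT ((g : ℤ) - 1) (g : ℤ)).epi_f
      ((hO _ (by omega)).eq_of_tgt _ _)
    haveI : IsIso δ := isIso_of_mono_of_epi _
    obtain ⟨e⟩ := Groth.L29.RelPC.nonempty_HD0_inD (k0 k A)
    exact ⟨asIso δ ≪≫ Groth.L10.hShiftIso (DCoh.inD A.left (k0 k A)) (-(g : ℤ)) (g : ℤ) 0 (by omega) ≪≫ e⟩
  · exact (DerivedCategory.HomologySequence.exact₃ _ hT p (p + 1)).isZero_of_both_zeros
      ((hO p h0).eq_of_src _ _) ((isZero_H_shift k A g (p + 1) (by omega)).eq_of_tgt _ _)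

end Groth.L29.IdealDual
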