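import Groth.Agent.L29.IdealDual.Sheaves
import Groth.Agent.L29.GV.IT0
import Groth.Agent.L26.FMInv.Equivalence
import Groth.Agent.L26.FMInv.DualDim
import Groth.Agent.L29.BC.Closure
import Groth.Agent.L29.BCAdj.HomFlat
import Groth.Agent.L00.TensorMod

/-!
The transforms of the structure sheaf and of the unit point.
-/

set_option autoImplicit false
set_option linter.style.haveILetI false
set_option backward.defeqAttrib.useBackward true
set_option backward.isDefEq.respectTransparency false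
set_option backward.isDefEq.respectTransparency.types false

universe u

open CategoryTheory CategoryTheory.Limits CategoryTheory.Pretriangulated MonoidalCategory CartesianMonoidalCategory MonObj GrpObj AlgebraicGeometry

attribute [local instance] HasDerivedCategory.standard

noncomputable section

namespace Groth.L29.IdealDual

open Groth.L00 Groth.L29.DC

/-- a twisted direct image of the structure sheaf -/
theorem nonempty_phi_O {X Y Z : Scheme.{u}} (p : Z ⟶ X) (q : Z ⟶ Y) [HasInjectiveResolutions Z.Modules]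
    (L : Z.Modules) (hL : FlatMod.IsFinLocFree L) [DCoh.HasLpull p] [DCoh.HasLTensorMod L] [DCoh.HasRpush q]
    (F : Y.Modules) (g : ℕ) (h0 : ∀ i : ℕ, i ≠ g → IsZero ((Coh.Rpush q i).obj L))
    (hg : Nonempty ((Coh.Rpush q g).obj L ≅ F)) :
    Nonempty ((DCoh.Lpull p ⋙ DCoh.LTensorMod L ⋙ DCoh.Rpush q).obj (DCoh.inD X (Coh.structureModule X)) ≅
      (DCoh.inD Y F)⟦-(g : ℤ)⟧) := by
  obtain ⟨o⟩ := Groth.L29.BCAdj.nonempty_Lpull_OD p
  obtain ⟨t⟩ := Groth.L29.GV.nonempty_ltm_single L (Coh.structureModule Z) hL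
  obtain ⟨r⟩ := Groth.Agent.L26.FMInv.nonempty_Rpush_of_concentrated q L F g h0 hg
  exact ⟨(DCoh.Rpush q).mapIso ((DCoh.LTensorMod L).mapIso o ≪≫ t ≪≫
    (DerivedCategory.singleFunctor Z.Modules 0).mapIso (Groth.L00.Tensor.tensorUnitLeft L)) ≪≫ r⟩

/-- shifts of modules have quasi-coherent cohomology -/
theorem isQCohD_shift {X : Scheme.{u}} {M : DCoh.D X} (hM : DCoh.IsQCohD M) (n : ℤ) : DCoh.IsQCohD (M⟦n⟧) :=
  FiveRight.PD_shift (fun N : X.Modules => Coh.IsQCoh N) (fun e h => isQCoh_of_iso' e h) hM n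

/-- triangles under a kernel functor -/
theorem exists_phi_triangle {X Y Z : Scheme.{u}} (p : Z ⟶ X) (q : Z ⟶ Y)
    (L : Z.Modules) (hL : FlatMod.IsFinLocFree L) [DCoh.HasLpull p] [DCoh.HasLTensorMod L] [DCoh.HasRpush q]
    {A B C : DCoh.D X} {a : A ⟶ B} {b : B ⟶ C} {c : C ⟶ A⟦(1 : ℤ)⟧} (hT : Triangle.mk a b c ∈ distTriang (DCoh.D X)) :
    ∃ (b' : (DCoh.Lpull p ⋙ DCoh.LTensorMod L ⋙ DCoh.Rpush q).obj B ⟶
        (DCoh.Lpull p ⋙ DCoh.LTensorMod L ⋙ DCoh.Rpush q).obj C)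
      (c' : (DCoh.Lpull p ⋙ DCoh.LTensorMod L ⋙ DCoh.Rpush q).obj C ⟶
        ((DCoh.Lpull p ⋙ DCoh.LTensorMod L ⋙ DCoh.Rpush q).obj A)⟦(1 : ℤ)⟧),
      Triangle.mk ((DCoh.Lpull p ⋙ DCoh.LTensorMod L ⋙ DCoh.Rpush q).map a) b' c' ∈ distTriang (DCoh.D Y) := by
  haveI := (Groth.L16.Rees.PushExact.exact_instances hL).1
  haveI := (Groth.L16.Rees.PushExact.exact_instances hL).2
  letI := Groth.L29.BC.commShiftLpull p
  haveI := Groth.L29.BC.isTriangulated_Lpull p
  letI := Gen.commShiftRpush q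
  haveI := Gen.isTriangulated_Rpush q
  let T := (DCoh.tensorRightMod L).mapDerivedCategory
  let G := DCoh.Lpull p ⋙ T ⋙ DCoh.Rpush q
  let e : G ≅ DCoh.Lpull p ⋙ DCoh.LTensorMod L ⋙ DCoh.Rpush q :=
    Functor.isoWhiskerLeft _ (Functor.isoWhiskerRight (Groth.Lead.TwistEquiv.ltIso L hL).symm _)
  have hG : G.mapTriangle.obj (Triangle.mk a b c) ∈ distTriang _ := G.map_distinguished _ hT
  refine ⟨(DCoh.Lpull p ⋙ DCoh.LTensorMod L ⋙ DCoh.Rpush q).map b,
    e.inv.app C ≫ (G.mapTriangle.obj (Triangle.mk a b c)).mor₃ ≫ (e.hom.app A)⟦(1 : ℤ)⟧', ?_⟩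
  refine isomorphic_distinguished _ hG _ (Triangle.isoMk _ _ (e.symm.app A) (e.symm.app B) (e.symm.app C)
    ?_ ?_ ?_)
  · exact e.inv.naturality a
  · exact e.inv.naturality b
  · simp [← Functor.map_comp]

variable (k : Type u) [Field k]
    (A At : Over (Spec (CommRingCat.of k))) [GrpObj A] [IsProper A.hom] [Smooth A.hom] [GeometricallyConnected A.hom]
    [GrpObj At] [IsProper At.hom] [Smooth At.hom] [GeometricallyConnected At.hom]
    (φ : ∀ T : Over (Spec (CommRingCat.of k)), PicF.Cl (PicF.XT A.hom T) → (T ⟶ At))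
    (hφ : AbDual.IsDualAV Scheme.fppfPrecoverage A At φ)
    (P : (pullback A.hom At.hom).Modules) (hP : PicF.IsInvertible P)
    (hPξ : AbDual.IsPoincareCl A At φ (PicF.cl P))
    (g : ℕ) (hg : topologicalKrullDim ↥A.left = g)
    [DCoh.HasLpull (pullback.fst A.hom At.hom)] [DCoh.HasLTensorMod P] [DCoh.HasRpush (pullback.snd A.hom At.hom)]

/-- the transform -/
abbrev Φ : DCoh.D A.left ⥤ DCoh.D At.left :=
  DCoh.Lpull (pullback.fst A.hom At.hom) ⋙ DCoh.LTensorMod P ⋙ DCoh.Rpush (pullback.snd A.hom At.hom)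

include hP in
theorem isQCohD_Φ (M : DCoh.D A.left) (hM : DCoh.IsQCohD M) : DCoh.IsQCohD ((Φ k A At P).obj M) := by
  haveI := KFlat.hasLTensorCx (Groth.Lead.LTMod.S0 P)
  refine isQCohD_of_iso ((DCoh.Rpush (pullback.snd A.hom At.hom)).mapIso
    ((Groth.Lead.LTMod.iso P).symm.app ((DCoh.Lpull (pullback.fst A.hom At.hom)).obj M))) ?_
  exact Groth.L10.FMBC.isQCohD_phi A.hom At.hom (Groth.Lead.LTMod.S0 P) (Groth.L10.FMBC.isQCohD_S0 hP) M hM

include hφ hP hPξ hg in
set_option maxHeartbeats 800000 in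
/-- the transform of the structure sheaf -/
theorem nonempty_Φ_O : Nonempty ((Φ k A At P).obj (DCoh.inD A.left (Coh.structureModule A.left)) ≅
    (DCoh.inD At.left (k0 k At))⟦-(g : ℤ)⟧) := by
  haveI := Groth.L17.PushQCoh.hasInjectiveResolutions (pullback A.hom At.hom)
  haveI : GeometricallyIntegral A.hom := Groth.Agent.L26.Mumford.geometricallyIntegral_av A
  haveI : IsCommMonObj A := isCommMonObj_of_isProper_of_geometricallyIntegral A
  haveI : GeometricallyIntegral At.hom := Groth.Agent.L26.Mumford.geometricallyIntegral_av At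
  haveI : IsCommMonObj At := isCommMonObj_of_isProper_of_geometricallyIntegral At
  have hgt : topologicalKrullDim ↥At.left = g := (Groth.Agent.L26.FMInv.dim_dual hφ P hPξ).trans hg
  have hc := Groth.Agent.L26.Mumford.poincareLike_of_isDualAV hφ hPξ
  exact nonempty_phi_O _ _ P (Groth.L10.FMBC.isFinLocFree_of_invertible hP) _ g
    (fun i hi => Groth.Agent.L26.Mumford.isZero_Rpush (A := A) (Q := At) hc P rfl hP g hg hgt i hi)
    (Groth.Agent.L26.Mumford.nonempty_Rpush_top (A := A) (Q := At) hc P rfl hP g hg hgt)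

include hφ hP hPξ hg in
set_option maxHeartbeats 800000 in
/-- the transform of the unit point -/
theorem nonempty_Φ_k0 : Nonempty ((Φ k A At P).obj ((DCoh.inD A.left (k0 k A))⟦-(g : ℤ)⟧) ≅
    (DCoh.inD At.left (Coh.structureModule At.left))⟦-(g : ℤ)⟧) := by
  haveI := fun {A B : Scheme.{u}} (f : A ⟶ B) => KFlat.hasLpull f
  haveI := fun {A B : Scheme.{u}} (f : A ⟶ B) => RpushQC.hasRpush f
  haveI := fun {V : Scheme.{u}} (M : V.Modules) => DerivedApi.hasLTensorMod M
  haveI := Groth.L17.PushQCoh.hasInjectiveResolutions (pullback At.hom A.hom)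
  have hgt : topologicalKrullDim ↥At.left = g := (Groth.Agent.L26.FMInv.dim_dual hφ P hPξ).trans hg
  haveI : IsLocallyNoetherian At.left := LocallyOfFiniteType.isLocallyNoetherian At.hom
  let P' := Groth.Agent.L26.Mumford.flipP P
  obtain ⟨e₀⟩ := nonempty_phi_O (pullback.fst At.hom A.hom) (pullback.snd At.hom A.hom) P'
    (Groth.L10.FMBC.isFinLocFree_of_invertible (PicLoc.isInvertible_pullback _ hP)) (k0 k A) g
    (fun i hi => Groth.Agent.L26.Mumford.isZero_Rpush_flip hφ P hP hPξ g hg hgt i hi)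
    (Groth.Agent.L26.Mumford.nonempty_Rpush_flip hφ P hP hPξ g hg hgt)
  obtain ⟨e₁⟩ := Groth.Agent.L26.FMInv.nonempty_comp' hφ P hP hPξ g hg hgt
  let f := e₁.app ⟨DCoh.inD At.left (Coh.structureModule At.left),
    Groth.Lead.LTMod.isQCohD_inD_of Groth.L16.CohClosedPush.isCoh_structure.1⟩
  obtain ⟨o⟩ := Groth.L29.BCAdj.nonempty_Lpull_OD ((𝟙 At)⁻¹ : At ⟶ At).left
  exact ⟨(Φ k A At P).mapIso e₀.symm ≪≫ f ≪≫ (shiftFunctor _ _).mapIso o⟩

end Groth.L29.IdealDual
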