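import Groth.Agent.L29.IdealDual.Point
import Groth.Agent.L29.DCoh.EvalMain
import Mathlib.Algebra.Homology.DerivedCategory.ShortExact

/-!
The triangle of duals of a short exact sequence of modules.
-/

set_option autoImplicit false
set_option linter.style.haveILetI false
set_option backward.defeqAttrib.useBackward true
set_option backward.isDefEq.respectTransparency false
set_option backward.isDefEq.respectTransparency.types false

universe u

open CategoryTheory CategoryTheory.Limits CategoryTheory.Pretriangulated AlgebraicGeometry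

attribute [local instance] HasDerivedCategory.standard

noncomputable section

namespace Groth.L29.IdealDual

open Groth.L00 Groth.L29.DC Groth.L07.BvdB Groth.L07.BvdB.DualFun

attribute [local instance] KFlat.hasLTensorCx RHom.hasRSheafHom

variable {X : Scheme.{u}}

theorem nonempty_H_RSheafHom (J : CochainComplex X.Modules ℤ) [J.IsKInjective] (K : CochainComplex X.Modules ℤ) :
    Nonempty (DerivedCategory.Q.obj ((HomCx.H (Eval.PhiR X) K).obj J) ≅
      (DCoh.RSheafHom K).obj (DCoh.toD X J)) :=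
  EvalMain.nonempty_RSheafHom J K

theorem nonempty_RSheafHom_unit (K : CochainComplex X.Modules ℤ) {A : DCoh.D X} (e : DCoh.toD X K ≅ A)
    {M : DCoh.D X} (u : M ≅ DualFun.unit (X := X)) :
    Nonempty ((DCoh.RSheafHom K).obj M ≅ dual A) :=
  ⟨(DCoh.RSheafHom K).mapIso u ≪≫ (dualIso A e).symm⟩

/-- the Hom complex represents the dual -/
theorem nonempty_H_dual (J : CochainComplex X.Modules ℤ) [J.IsKInjective]
    (u : DCoh.toD X J ≅ DualFun.unit (X := X)) (K : CochainComplex X.Modules ℤ) {A : DCoh.D X}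
    (e : DCoh.toD X K ≅ A) :
    Nonempty (DerivedCategory.Q.obj ((HomCx.H (Eval.PhiR X) K).obj J) ≅ dual A) :=
  (nonempty_H_RSheafHom J K).elim fun r => (nonempty_RSheafHom_unit K e u).elim fun q => ⟨r ≪≫ q⟩

/-- a degreewise split short exact sequence gives a triangle of Hom complexes -/
theorem exists_triangle_H {C : Type (u + 1)} [Category.{u} C] [Abelian C] [HasDerivedCategory.{u + 1} C]
    {Φ : CochainComplex C ℤ ⥤ CochainComplex C ℤ ⥤ CochainComplex C ℤ} [∀ X, (Φ.obj X).IsLeftAdjoint]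
    (d : HomCx.Data Φ) (J : CochainComplex C ℤ) [J.IsKInjective] (R : ShortComplex (CochainComplex C ℤ))
    (sp : ∀ n, (R.map (HomologicalComplex.eval C (ComplexShape.up ℤ) n)).Splitting) :
    ∃ (a : DerivedCategory.Q.obj ((HomCx.H Φ R.X₃).obj J) ⟶ DerivedCategory.Q.obj ((HomCx.H Φ R.X₂).obj J))
      (b : DerivedCategory.Q.obj ((HomCx.H Φ R.X₂).obj J) ⟶ DerivedCategory.Q.obj ((HomCx.H Φ R.X₁).obj J))
      (c : DerivedCategory.Q.obj ((HomCx.H Φ R.X₁).obj J) ⟶
        (DerivedCategory.Q.obj ((HomCx.H Φ R.X₃).obj J))⟦(1 : ℤ)⟧),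
      Triangle.mk a b c ∈ distTriang (DerivedCategory C) := by
  have hS : (HomCx.homSC d R J).ShortExact :=
    HomologicalComplex.shortExact_of_degreewise_shortExact _ fun n => ((HomCx.homSplit d R sp J) n).shortExact
  exact ⟨_, _, _, DerivedCategory.triangleOfSES_distinguished hS⟩

/-- the triangle of Hom complexes of the cone of a morphism -/
theorem exists_triangle_cone {C : Type (u + 1)} [Category.{u} C] [Abelian C] [HasDerivedCategory.{u + 1} C]
    {Φ : CochainComplex C ℤ ⥤ CochainComplex C ℤ ⥤ CochainComplex C ℤ} [∀ X, (Φ.obj X).IsLeftAdjoint]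
    (d : HomCx.Data Φ) (J : CochainComplex C ℤ) [J.IsKInjective] {K L : CochainComplex C ℤ} (φ : K ⟶ L) :
    ∃ (a : DerivedCategory.Q.obj ((HomCx.H Φ (K⟦(1 : ℤ)⟧)).obj J) ⟶
        DerivedCategory.Q.obj ((HomCx.H Φ (CochainComplex.mappingCone φ)).obj J))
      (b : DerivedCategory.Q.obj ((HomCx.H Φ (CochainComplex.mappingCone φ)).obj J) ⟶
        DerivedCategory.Q.obj ((HomCx.H Φ L).obj J))
      (c : DerivedCategory.Q.obj ((HomCx.H Φ L).obj J) ⟶
        (DerivedCategory.Q.obj ((HomCx.H Φ (K⟦(1 : ℤ)⟧)).obj J))⟦(1 : ℤ)⟧),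
      Triangle.mk a b c ∈ distTriang (DerivedCategory C) :=
  exists_triangle_H d J (CochainComplex.mappingCone.triangleRotateShortComplex φ)
    (CochainComplex.mappingCone.triangleRotateShortComplexSplitting φ)

/-- rotation and transport of a triangle -/
theorem exists_rotate {C : Type*} [Category C] [Preadditive C] [HasZeroObject C] [HasShift C ℤ]
    [∀ n : ℤ, (shiftFunctor C n).Additive] [Pretriangulated C] {A B D : C} {a : A ⟶ B} {b : B ⟶ D}
    {c : D ⟶ A⟦(1 : ℤ)⟧} (hT : Triangle.mk a b c ∈ distTriang C) {A' B' D' : C} (i : B ≅ A') (j : D ≅ B')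
    (l : A⟦(1 : ℤ)⟧ ≅ D') :
    ∃ (f : A' ⟶ B') (g : B' ⟶ D') (h : D' ⟶ A'⟦(1 : ℤ)⟧), Triangle.mk f g h ∈ distTriang C := by
  refine ⟨i.inv ≫ b ≫ j.hom, j.inv ≫ c ≫ l.hom, l.inv ≫ (Triangle.mk a b c).rotate.mor₃ ≫ i.hom⟦(1 : ℤ)⟧',
    isomorphic_distinguished _ (rot_of_distTriang _ hT) _ ?_⟩
  exact Triangle.isoMk _ _ i.symm j.symm l.symm (by simp) (by simp) (by simp [← Functor.map_comp])

theorem nonempty_Q_single (M : X.Modules) :
    Nonempty (DCoh.toD X ((HomologicalComplex.single X.Modules (ComplexShape.up ℤ) 0).obj M) ≅ DCoh.inD X M) :=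
  ⟨((DerivedCategory.singleFunctorIsoCompQ X.Modules 0).app M).symm⟩

theorem nonempty_Q_shift (K : CochainComplex X.Modules ℤ) {M : DCoh.D X} (e : DCoh.toD X K ≅ M) :
    Nonempty (DCoh.toD X (K⟦(1 : ℤ)⟧) ≅ M⟦(1 : ℤ)⟧) :=
  ⟨(DerivedCategory.Q.commShiftIso (1 : ℤ)).app K ≪≫ (shiftFunctor _ _).mapIso e⟩

theorem nonempty_Q_cone {S : ShortComplex (CochainComplex X.Modules ℤ)} (hS : S.ShortExact) {M : DCoh.D X}
    (e : DCoh.toD X S.X₃ ≅ M) : Nonempty (DCoh.toD X (CochainComplex.mappingCone S.f) ≅ M) := by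
  let φ := CochainComplex.mappingCone.descShortComplex S
  haveI : QuasiIso φ := CochainComplex.mappingCone.quasiIso_descShortComplex hS
  haveI : IsIso (DerivedCategory.Q.map φ) := (DerivedCategory.isIso_Q_map_iff_quasiIso _ φ).2 inferInstance
  exact ⟨asIso (DerivedCategory.Q.map φ) ≪≫ e⟩

theorem shortExact_single {S : ShortComplex X.Modules} (hS : S.ShortExact) :
    (S.map (HomologicalComplex.single X.Modules (ComplexShape.up ℤ) 0)).ShortExact :=
  hS.map_of_exact _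

theorem exists_dual_triangle_cx (J : CochainComplex X.Modules ℤ) [J.IsKInjective]
    (u : DCoh.toD X J ≅ DualFun.unit (X := X)) (S : ShortComplex (CochainComplex X.Modules ℤ)) (hS : S.ShortExact)
    {A B C : DCoh.D X} (e₁ : DCoh.toD X S.X₁ ≅ A) (e₂ : DCoh.toD X S.X₂ ≅ B) (e₃ : DCoh.toD X S.X₃ ≅ C) :
    ∃ (a : dual C ⟶ dual B) (b : dual B ⟶ dual A) (c : dual A ⟶ (dual C)⟦(1 : ℤ)⟧),
      Triangle.mk a b c ∈ distTriang (DCoh.D X) := by
  obtain ⟨a, b, c, hT⟩ := exists_triangle_cone (Eval.dataR X) J S.f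
  obtain ⟨q₁⟩ := nonempty_Q_shift _ e₁
  obtain ⟨q₃⟩ := nonempty_Q_cone hS e₃
  obtain ⟨i₁⟩ := nonempty_H_dual J u (S.X₁⟦(1 : ℤ)⟧) q₁
  obtain ⟨i₂⟩ := nonempty_H_dual J u (CochainComplex.mappingCone S.f) q₃
  obtain ⟨i₃⟩ := nonempty_H_dual J u S.X₂ e₂
  obtain ⟨sh⟩ := nonempty_dual_shift A (1 : ℤ)
  exact exists_rotate hT i₂ i₃ ((shiftFunctor (DCoh.D X) (1 : ℤ)).mapIso (i₁ ≪≫ sh) ≪≫
      (shiftFunctorCompIsoId (DCoh.D X) (-1 : ℤ) 1 (by omega)).app (dual A))

/-- the triangle of duals -/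
theorem exists_dual_triangle {S : ShortComplex X.Modules} (hS : S.ShortExact) :
    ∃ (a : dual (DCoh.inD X S.X₃) ⟶ dual (DCoh.inD X S.X₂))
      (b : dual (DCoh.inD X S.X₂) ⟶ dual (DCoh.inD X S.X₁))
      (c : dual (DCoh.inD X S.X₁) ⟶ (dual (DCoh.inD X S.X₃))⟦(1 : ℤ)⟧),
      Triangle.mk a b c ∈ distTriang (DCoh.D X) := by
  obtain ⟨J, hJ, ⟨u⟩⟩ := EvalMain.exists_kinj (DualFun.unit (X := X))
  haveI := hJ
  obtain ⟨e₁⟩ := nonempty_Q_single S.X₁
  obtain ⟨e₂⟩ := nonempty_Q_single S.X₂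
  obtain ⟨e₃⟩ := nonempty_Q_single S.X₃
  exact exists_dual_triangle_cx J u _ (shortExact_single hS) e₁ e₂ e₃

end Groth.L29.IdealDual
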